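import Mathlib
import Cfsg.Agent.H416.CV.Cen
import Cfsg.Agent.Lib.Zsigmondy

/-!
# The element `M_m` of `GL_m(q)` (helper416, S3442)

* `exists_P` : a matrix `P ∈ GL_a(K)`, `K` the algebraic closure of `F`, such that every `z ∈ K` with `z ^ (q ^ a) = z`
  gives a matrix over `F` with eigenvalues `z ^ (q ^ i)`;
* `exists_M` : for `m ≥ 3`, `q` odd: `M = N * N ∈ GL_m(F)`, diagonalised by `P` with eigenvalues `θ_j`, signs `s_j` with
  `∏ θ_j ^ s_j = 1`, `Big q m (orderOf M)` and `p ∤ orderOf M`.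
-/

set_option autoImplicit false
set_option linter.unusedSectionVars false
set_option linter.unusedVariables false
set_option linter.unusedSimpArgs false

namespace Cfsg.Agent.H416.CV

open Matrix Polynomial Cfsg.Agent.H559.UnitMult

section P

variable {F : Type*} [Field F] [Fintype F]

local notation "𝕂" => AlgebraicClosure F
local notation "𝕢" => Fintype.card F

/-- **matrices over `F` with given eigenvalues** -/
theorem exists_P (p : ℕ) [hp : Fact p.Prime] [CharP F p] (a : ℕ) (ha : 1 ≤ a) :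
    ∃ P : GL (Fin a) 𝕂, ∀ z : 𝕂, z ≠ 0 → z ^ 𝕢 ^ a = z → ∃ M : GL (Fin a) F,
      (M : Matrix (Fin a) (Fin a) F).map (algebraMap F 𝕂) =
        (P : Matrix (Fin a) (Fin a) 𝕂) * diagonal (fun i : Fin a => z ^ 𝕢 ^ (i : ℕ)) *
          ((P⁻¹ : GL (Fin a) 𝕂) : Matrix (Fin a) (Fin a) 𝕂) := by
  classical
  have : NeZero a := ⟨by omega⟩
  set L := FiniteField.Extension F p a with hL
  have hfr : Module.finrank F L = a := FiniteField.finrank_extension F p a
  let ιL : L →ₐ[F] 𝕂 := IsAlgClosed.lift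
  have hfL : Fintype L := Fintype.ofFinite L
  have hcardL : Fintype.card L = 𝕢 ^ a := by
    rw [Fintype.card_eq_nat_card, FiniteField.natCard_extension, ← Fintype.card_eq_nat_card]
  have hq1 : 1 < 𝕢 := Fintype.one_lt_card
  -- the image of `L`
  have himg : ∀ z : 𝕂, z ^ 𝕢 ^ a = z → ∃ x : L, ιL x = z := by
    intro z hz
    have hpol : (X ^ 𝕢 ^ a - X : (𝕂)[X]) ≠ 0 := by
      have h1 : 1 < 𝕢 ^ a := Nat.one_lt_pow (by omega) hq1
      exact FiniteField.X_pow_card_sub_X_ne_zero 𝕂 h1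
    have h1 : (Finset.univ.image fun x : L => ιL x) = (X ^ 𝕢 ^ a - X : (𝕂)[X]).roots.toFinset := by
      apply Finset.eq_of_subset_of_card_le
      · intro y hy
        obtain ⟨x, -, rfl⟩ := Finset.mem_image.1 hy
        rw [Multiset.mem_toFinset, mem_roots hpol, IsRoot.def, eval_sub, eval_pow, eval_X, sub_eq_zero, ← map_pow,
          ← hcardL, FiniteField.pow_card]
      · rw [Finset.card_image_of_injective _ (show Function.Injective (fun x : L => ιL x) from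
          ιL.toRingHom.injective), Finset.card_univ, hcardL]
        refine (Multiset.toFinset_card_le _).trans ((card_roots' _).trans ?_)
        have h1 : 1 < 𝕢 ^ a := Nat.one_lt_pow (by omega) hq1
        rw [FiniteField.X_pow_card_sub_X_natDegree_eq 𝕂 h1]
    have h2 : z ∈ (X ^ 𝕢 ^ a - X : (𝕂)[X]).roots.toFinset := by
      rw [Multiset.mem_toFinset, mem_roots hpol, IsRoot.def, eval_sub, eval_pow, eval_X, hz, sub_self]
    rw [← h1] at h2
    obtain ⟨x, -, hx⟩ := Finset.mem_image.1 h2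
    exact ⟨x, hx⟩
  let b : Module.Basis (Fin a) F L := Module.finBasisOfFinrankEq F L hfr
  obtain ⟨σ, hσ⟩ := exists_frob F
  have hσk : ∀ (k : ℕ) (x : 𝕂), (σ ^ k) x = x ^ 𝕢 ^ k := by
    intro k
    induction k with
    | zero => intro x; rw [pow_zero, pow_zero, pow_one]; rfl
    | succ k ih =>
      intro x
      rw [pow_succ, RingHom.mul_def, RingHom.comp_apply, ih, hσ, ← pow_mul, mul_comm, pow_succ]
  -- the matrix
  set Q : Matrix (Fin a) (Fin a) 𝕂 := Matrix.of fun k i => (ιL (b i)) ^ 𝕢 ^ (k : ℕ) with hQ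
  have hexp : ∀ (k : ℕ) (x : L), (ιL x) ^ 𝕢 ^ k = ∑ i, algebraMap F 𝕂 (b.repr x i) * (ιL (b i)) ^ 𝕢 ^ k := by
    intro k x
    conv_lhs => rw [← b.sum_repr x]
    rw [map_sum, ← hσk, map_sum]
    refine Finset.sum_congr rfl fun i _ => ?_
    rw [map_smul, Algebra.smul_def, map_mul, hσk, hσk, ← map_pow]
    congr 2
    have : ∀ n : ℕ, (b.repr x i) ^ 𝕢 ^ n = b.repr x i := fun n => by
      induction n with
      | zero => rw [pow_zero, pow_one]
      | succ n ih => rw [pow_succ, pow_mul, ih, FiniteField.pow_card]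
    exact this k
  have hQu : IsUnit Q := by
    rw [← Matrix.linearIndependent_rows_iff_isUnit]
    let φ : Fin a → (L →* 𝕂) := fun k => ((σ ^ (k : ℕ)).comp ιL.toRingHom : L →+* 𝕂)
    have hφ : ∀ k x, φ k x = (ιL x) ^ 𝕢 ^ (k : ℕ) := fun k x => hσk k (ιL x)
    have hinj : Function.Injective φ := by
      intro k l hkl
      obtain ⟨g, hg⟩ := IsCyclic.exists_generator (α := Lˣ)
      have hog : orderOf g = 𝕢 ^ a - 1 := by
        rw [orderOf_eq_card_of_forall_mem_zpowers hg, Nat.card_units, ← Fintype.card_eq_nat_card, hcardL]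
      have h1 : (ιL (g : L)) ^ 𝕢 ^ (k : ℕ) = (ιL (g : L)) ^ 𝕢 ^ (l : ℕ) := by
        rw [← hφ, ← hφ, hkl]
      rw [← map_pow, ← map_pow] at h1
      have h2 : g ^ 𝕢 ^ (k : ℕ) = g ^ 𝕢 ^ (l : ℕ) := by
        apply Units.ext
        rw [Units.val_pow_eq_pow_val, Units.val_pow_eq_pow_val]
        exact ιL.toRingHom.injective h1
      rw [pow_eq_pow_iff_modEq, hog] at h2
      have hlt : ∀ j : Fin a, 𝕢 ^ (j : ℕ) < 𝕢 ^ a - 1 ∨ a = 1 := by
        intro j
        by_cases ha1 : a = 1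
        · exact Or.inr ha1
        left
        have h3 : 𝕢 ^ (j : ℕ) ≤ 𝕢 ^ (a - 1) := Nat.pow_le_pow_right (by omega) (by omega)
        have h4 : 𝕢 ^ a = 𝕢 ^ (a - 1) * 𝕢 := by rw [← pow_succ]; congr 1; omega
        have h5 : 𝕢 ≤ 𝕢 ^ (a - 1) := Nat.le_self_pow (by omega) _
        have h6 : 𝕢 ^ (a - 1) * 2 ≤ 𝕢 ^ (a - 1) * 𝕢 := Nat.mul_le_mul_left _ hq1
        omega
      rcases hlt k with h3 | h3
      · rcases hlt l with h4 | h4
        · have h5 := Nat.ModEq.eq_of_lt_of_lt h2 h3 h4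
          exact Fin.ext (Nat.pow_right_injective hq1 h5)
        · exact Fin.ext (by omega)
      · exact Fin.ext (by omega)
    have hli := (linearIndependent_monoidHom L 𝕂).comp φ hinj
    rw [Fintype.linearIndependent_iff] at hli ⊢
    intro c hc
    apply hli
    funext x
    rw [Finset.sum_apply, Pi.zero_apply]
    have h1 : ∀ i, ∑ k, c k * (ιL (b i)) ^ 𝕢 ^ (k : ℕ) = 0 := by
      intro i
      have h2 := congrFun hc i
      rw [Finset.sum_apply, Pi.zero_apply] at h2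
      rw [← h2]
      rfl
    calc ∑ k, (c k • ((fun f : L →* 𝕂 => (f : L → 𝕂)) ∘ φ) k) x
        = ∑ k, c k * ∑ i, algebraMap F 𝕂 (b.repr x i) * (ιL (b i)) ^ 𝕢 ^ (k : ℕ) := by
          refine Finset.sum_congr rfl fun k _ => ?_
          rw [Pi.smul_apply, smul_eq_mul, Function.comp_apply, hφ, hexp]
      _ = ∑ i, algebraMap F 𝕂 (b.repr x i) * ∑ k, c k * (ιL (b i)) ^ 𝕢 ^ (k : ℕ) := by
          simp only [Finset.mul_sum]
          rw [Finset.sum_comm]
          refine Finset.sum_congr rfl fun i _ => Finset.sum_congr rfl fun k _ => ?_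
          ring
      _ = 0 := by
          refine Finset.sum_eq_zero fun i _ => ?_
          rw [h1, mul_zero]
  obtain ⟨Qu, hQu'⟩ := hQu
  refine ⟨Qu⁻¹, fun z hz0 hz => ?_⟩
  obtain ⟨x, hx⟩ := himg z hz
  have hx0 : x ≠ 0 := by
    rintro rfl
    rw [map_zero] at hx
    exact hz0 hx.symm
  have hmul : ∀ y : L, Q * ((Algebra.leftMulMatrix b y).map (algebraMap F 𝕂)) =
      diagonal (fun i : Fin a => (ιL y) ^ 𝕢 ^ (i : ℕ)) * Q := by
    intro y
    ext k j
    rw [Matrix.diagonal_mul, Matrix.mul_apply]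
    have h1 : y * b j = ∑ i, (Algebra.leftMulMatrix b y) i j • b i := by
      conv_lhs => rw [← b.sum_repr (y * b j)]
      refine Finset.sum_congr rfl fun i _ => ?_
      rw [Algebra.leftMulMatrix_eq_repr_mul]
    have h2 := hexp k (y * b j)
    rw [map_mul, mul_pow] at h2
    show ∑ i, (ιL (b i)) ^ 𝕢 ^ (k : ℕ) * algebraMap F 𝕂 ((Algebra.leftMulMatrix b y) i j) =
      (ιL y) ^ 𝕢 ^ (k : ℕ) * (ιL (b j)) ^ 𝕢 ^ (k : ℕ)
    rw [h2]
    refine Finset.sum_congr rfl fun i _ => ?_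
    rw [Algebra.leftMulMatrix_eq_repr_mul, mul_comm]
  let M : GL (Fin a) F := ⟨Algebra.leftMulMatrix b x, Algebra.leftMulMatrix b x⁻¹,
    by rw [← map_mul, mul_inv_cancel₀ hx0, map_one], by rw [← map_mul, inv_mul_cancel₀ hx0, map_one]⟩
  refine ⟨M, ?_⟩
  rw [inv_inv]
  have h1 := hmul x
  rw [hx, ← hQu'] at h1
  show (Algebra.leftMulMatrix b x).map (algebraMap F 𝕂) = _
  rw [mul_assoc, ← h1, ← mul_assoc, ← Units.val_mul, inv_mul_cancel, Units.val_one, one_mul]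

end P

section diag

variable {F : Type*} [Field F] [Fintype F] {ι : Type*} [Fintype ι] [DecidableEq ι]

local notation "𝕂" => AlgebraicClosure F

/-- `M` is diagonalised by `P` with the eigenvalues `θ` -/
def Dg (M : GL ι F) (P : GL ι 𝕂) (θ : ι → 𝕂) : Prop :=
  (M : Matrix ι ι F).map (algebraMap F 𝕂) =
    (P : Matrix ι ι 𝕂) * diagonal θ * ((P⁻¹ : GL ι 𝕂) : Matrix ι ι 𝕂)

theorem map_inj {A B : Matrix ι ι F} (h : A.map (algebraMap F 𝕂) = B.map (algebraMap F 𝕂)) : A = B := by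
  ext i j
  exact (algebraMap F 𝕂).injective (congrFun (congrFun h i) j)

theorem Dg.mul {M N : GL ι F} {P : GL ι 𝕂} {θ η : ι → 𝕂} (h : Dg M P θ) (h' : Dg N P η) :
    Dg (M * N) P (fun i => θ i * η i) := by
  unfold Dg at h h' ⊢
  rw [Units.val_mul, Matrix.map_mul, h, h', ← Matrix.diagonal_mul_diagonal]
  have h1 : ((P⁻¹ : GL ι 𝕂) : Matrix ι ι 𝕂) * (P : Matrix ι ι 𝕂) = 1 := by
    rw [← Units.val_mul, inv_mul_cancel, Units.val_one]
  calc _ = (P : Matrix ι ι 𝕂) * diagonal θ * ((((P⁻¹ : GL ι 𝕂) : Matrix ι ι 𝕂) * (P : Matrix ι ι 𝕂)) * (diagonal η *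
          ((P⁻¹ : GL ι 𝕂) : Matrix ι ι 𝕂))) := by noncomm_ring
    _ = _ := by rw [h1, one_mul]; noncomm_ring

theorem Dg.inj {M N : GL ι F} {P : GL ι 𝕂} {θ : ι → 𝕂} (h : Dg M P θ) (h' : Dg N P θ) : M = N := by
  apply Units.ext
  apply map_inj
  rw [h, h']

theorem Dg.one (P : GL ι 𝕂) : Dg (1 : GL ι F) P (fun _ => 1) := by
  unfold Dg
  rw [Units.val_one, Matrix.map_one _ (map_zero _) (map_one _), Matrix.diagonal_one, mul_one, ← Units.val_mul,
    mul_inv_cancel, Units.val_one]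

theorem Dg.pow {M : GL ι F} {P : GL ι 𝕂} {θ : ι → 𝕂} (h : Dg M P θ) (k : ℕ) : Dg (M ^ k) P (fun i => θ i ^ k) := by
  induction k with
  | zero => simp only [pow_zero]; exact Dg.one P
  | succ k ih =>
    rw [pow_succ]
    have h1 := ih.mul h
    have h2 : (fun i => θ i ^ k * θ i) = fun i => θ i ^ (k + 1) := by
      funext i
      rw [pow_succ]
    rwa [h2] at h1

theorem Dg.theta_inj {M : GL ι F} {P : GL ι 𝕂} {θ η : ι → 𝕂} (h : Dg M P θ) (h' : Dg M P η) : θ = η := by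
  unfold Dg at h h'
  rw [h] at h'
  have h1 : ((P⁻¹ : GL ι 𝕂) : Matrix ι ι 𝕂) * (P : Matrix ι ι 𝕂) = 1 := by
    rw [← Units.val_mul, inv_mul_cancel, Units.val_one]
  have h2 : diagonal θ = diagonal η := by
    have h3 := congrArg (fun A => ((P⁻¹ : GL ι 𝕂) : Matrix ι ι 𝕂) * A * (P : Matrix ι ι 𝕂)) h'
    simp only [mul_assoc] at h3
    simp only [h1, mul_one] at h3
    simpa only [← mul_assoc, h1, one_mul] using h3
  exact Matrix.diagonal_injective h2

theorem Dg.pow_eq_one_iff {M : GL ι F} {P : GL ι 𝕂} {θ : ι → 𝕂} (h : Dg M P θ) (k : ℕ) :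
    M ^ k = 1 ↔ ∀ i, θ i ^ k = 1 := by
  constructor
  · intro h1 i
    have h2 := h.pow k
    rw [h1] at h2
    exact congrFun (h2.theta_inj (Dg.one P)) i
  · intro h1
    have h2 := h.pow k
    have h3 : (fun i => θ i ^ k) = fun _ => (1 : 𝕂) := funext h1
    rw [h3] at h2
    exact h2.inj (Dg.one P)

theorem Dg.orderOf_dvd {M : GL ι F} {P : GL ι 𝕂} {θ : ι → 𝕂} (h : Dg M P θ) (i : ι) : orderOf (θ i) ∣ orderOf M :=
  orderOf_dvd_of_pow_eq_one ((h.pow_eq_one_iff _).1 (pow_orderOf_eq_one M) i)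

/-- block diagonal -/
theorem Dg.block {κ : Type*} [Fintype κ] [DecidableEq κ] {M : GL ι F} {P : GL ι 𝕂} {θ : ι → 𝕂} (h : Dg M P θ)
    {N : GL κ F} {Q : GL κ 𝕂} {η : κ → 𝕂} (h' : Dg N Q η) :
    ∃ (M' : GL (ι ⊕ κ) F) (P' : GL (ι ⊕ κ) 𝕂), Dg M' P' (Sum.elim θ η) := by
  have hM : (M : Matrix ι ι F) * ((M⁻¹ : GL ι F) : Matrix ι ι F) = 1 := by rw [← Units.val_mul, mul_inv_cancel, Units.val_one]
  have hM' : ((M⁻¹ : GL ι F) : Matrix ι ι F) * (M : Matrix ι ι F) = 1 := by rw [← Units.val_mul, inv_mul_cancel, Units.val_one]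
  have hN : (N : Matrix κ κ F) * ((N⁻¹ : GL κ F) : Matrix κ κ F) = 1 := by rw [← Units.val_mul, mul_inv_cancel, Units.val_one]
  have hN' : ((N⁻¹ : GL κ F) : Matrix κ κ F) * (N : Matrix κ κ F) = 1 := by rw [← Units.val_mul, inv_mul_cancel, Units.val_one]
  have hP : (P : Matrix ι ι 𝕂) * ((P⁻¹ : GL ι 𝕂) : Matrix ι ι 𝕂) = 1 := by rw [← Units.val_mul, mul_inv_cancel, Units.val_one]
  have hP' : ((P⁻¹ : GL ι 𝕂) : Matrix ι ι 𝕂) * (P : Matrix ι ι 𝕂) = 1 := by rw [← Units.val_mul, inv_mul_cancel, Units.val_one]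
  have hQ : (Q : Matrix κ κ 𝕂) * ((Q⁻¹ : GL κ 𝕂) : Matrix κ κ 𝕂) = 1 := by rw [← Units.val_mul, mul_inv_cancel, Units.val_one]
  have hQ' : ((Q⁻¹ : GL κ 𝕂) : Matrix κ κ 𝕂) * (Q : Matrix κ κ 𝕂) = 1 := by rw [← Units.val_mul, inv_mul_cancel, Units.val_one]
  let M' : GL (ι ⊕ κ) F := ⟨fromBlocks M 0 0 N, fromBlocks (M⁻¹ : GL ι F) 0 0 (N⁻¹ : GL κ F),
    by rw [fromBlocks_multiply]; simp [hM, hN, fromBlocks_one], by rw [fromBlocks_multiply]; simp [hM', hN', fromBlocks_one]⟩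
  let P' : GL (ι ⊕ κ) 𝕂 := ⟨fromBlocks P 0 0 Q, fromBlocks (P⁻¹ : GL ι 𝕂) 0 0 (Q⁻¹ : GL κ 𝕂),
    by rw [fromBlocks_multiply]; simp [hP, hQ, fromBlocks_one], by rw [fromBlocks_multiply]; simp [hP', hQ', fromBlocks_one]⟩
  refine ⟨M', P', ?_⟩
  show (fromBlocks (M : Matrix ι ι F) 0 0 (N : Matrix κ κ F)).map (algebraMap F 𝕂) =
    fromBlocks (P : Matrix ι ι 𝕂) 0 0 (Q : Matrix κ κ 𝕂) * diagonal (Sum.elim θ η) *
      fromBlocks ((P⁻¹ : GL ι 𝕂) : Matrix ι ι 𝕂) 0 0 ((Q⁻¹ : GL κ 𝕂) : Matrix κ κ 𝕂)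
  unfold Dg at h h'
  rw [fromBlocks_map, h, h', ← fromBlocks_diagonal, fromBlocks_multiply, fromBlocks_multiply]
  congr 1 <;> simp [Matrix.map_zero _ (map_zero _)]

theorem Dg.reindex {κ : Type*} [Fintype κ] [DecidableEq κ] {M : GL ι F} {P : GL ι 𝕂} {θ : ι → 𝕂} (h : Dg M P θ)
    (e : ι ≃ κ) : ∃ (M' : GL κ F) (P' : GL κ 𝕂), Dg M' P' (θ ∘ e.symm) := by
  let fM := (Matrix.reindexAlgEquiv F F e : Matrix ι ι F ≃ₐ[F] Matrix κ κ F)
  let fP := (Matrix.reindexAlgEquiv 𝕂 𝕂 e : Matrix ι ι 𝕂 ≃ₐ[𝕂] Matrix κ κ 𝕂)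
  refine ⟨Units.map fM.toRingEquiv.toRingHom.toMonoidHom M, Units.map fP.toRingEquiv.toRingHom.toMonoidHom P, ?_⟩
  unfold Dg at h ⊢
  rw [← map_inv]
  show (Matrix.reindex e e (M : Matrix ι ι F)).map (algebraMap F 𝕂) =
    fP (P : Matrix ι ι 𝕂) * diagonal (θ ∘ e.symm) * fP ((P⁻¹ : GL ι 𝕂) : Matrix ι ι 𝕂)
  have h1 : diagonal (θ ∘ e.symm) = fP (diagonal θ) := by
    show _ = Matrix.reindex e e (diagonal θ)
    rw [Matrix.reindex_apply, Matrix.submatrix_diagonal_equiv]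
  rw [h1, ← map_mul, ← map_mul, ← h]
  rfl

end diag

section M

variable {F : Type*} [Field F] [Fintype F]

local notation "𝕂" => AlgebraicClosure F
local notation "𝕢" => Fintype.card F

theorem exists_prim (F : Type*) [Field F] [Fintype F] (p : ℕ) [hp : Fact p.Prime] [CharP F p] {o : ℕ} (ho : 0 < o)
    (hpo : ¬ p ∣ o) : ∃ z : AlgebraicClosure F, z ≠ 0 ∧ orderOf z = o := by
  have hKp : CharP (AlgebraicClosure F) p := charP_of_injective_algebraMap (algebraMap F (AlgebraicClosure F)).injective p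
  have : NeZero (o : AlgebraicClosure F) := ⟨fun h => hpo ((CharP.cast_eq_zero_iff _ p o).1 h)⟩
  have : NeZero o := ⟨ho.ne'⟩
  obtain ⟨z, hz⟩ := HasEnoughRootsOfUnity.exists_primitiveRoot (AlgebraicClosure F) o
  refine ⟨z, ?_, hz.eq_orderOf.symm⟩
  rintro rfl
  have h1 := hz.pow_eq_one
  rw [zero_pow ho.ne'] at h1
  exact zero_ne_one h1

theorem pow_q_of_order {z : 𝕂} {a : ℕ} (h : orderOf z ∣ 𝕢 ^ a - 1) : z ^ 𝕢 ^ a = z := by
  have h1 : 𝕢 ^ a = (𝕢 ^ a - 1) + 1 := by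
    have := Nat.one_le_pow a (𝕢) Fintype.card_pos
    omega
  rw [h1, pow_succ, orderOf_dvd_iff_pow_eq_one.1 h, one_mul]

theorem dvd_of_ord {q r a k : ℕ} (hq : 1 ≤ q) (h : orderOf (q : ZMod r) = a) (hk : a ∣ k) : r ∣ q ^ k - 1 := by
  have h1 : (q : ZMod r) ^ k = 1 := by
    rw [← orderOf_dvd_iff_pow_eq_one, h]
    exact hk
  have h2 : ((q ^ k - 1 : ℕ) : ZMod r) = 0 := by
    rw [Nat.cast_sub (Nat.one_le_pow _ _ hq)]
    push_cast
    rw [h1, sub_self]
  exact (ZMod.natCast_eq_zero_iff _ _).1 h2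

/-- odd order: a square root -/
theorem sqrt_odd {z : 𝕂} (hz : z ≠ 0) (ho : Odd (orderOf z)) : ∃ y : 𝕂, y ≠ 0 ∧ y * y = z ∧ orderOf y ∣ orderOf z := by
  obtain ⟨k, hk⟩ := ho
  refine ⟨z ^ (k + 1), pow_ne_zero _ hz, ?_, orderOf_pow_dvd _⟩
  rw [← pow_add, show k + 1 + (k + 1) = orderOf z + 1 by omega, pow_succ, pow_orderOf_eq_one, one_mul]

theorem prod_pow_q (z : 𝕂) (a : ℕ) : ∏ i : Fin a, z ^ 𝕢 ^ (i : ℕ) = z ^ ∑ i ∈ Finset.range a, 𝕢 ^ i := by
  rw [Finset.prod_pow_eq_pow_sum, Finset.sum_range]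

/-- `r ∣ 1 + q + … + q^(a-1)` -/
theorem dvd_geom {q r a : ℕ} (hr : r.Prime) (hq : 1 < q) (h : orderOf (q : ZMod r) = a) (ha : 2 ≤ a) :
    r ∣ ∑ i ∈ Finset.range a, q ^ i := by
  have h1 := dvd_of_ord (k := a) (by omega) h dvd_rfl
  have h2 : (∑ i ∈ Finset.range a, q ^ i) * (q - 1) = q ^ a - 1 := by
    have := Nat.geomSum_eq (by omega : 2 ≤ q) a
    rw [this]
    exact Nat.div_mul_cancel (by simpa using Nat.sub_dvd_pow_sub_pow q 1 a)
  rw [← h2] at h1
  refine (hr.dvd_mul.1 h1).resolve_right fun h3 => ?_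
  have h4 : (q : ZMod r) = 1 := by
    have h5 : ((q - 1 : ℕ) : ZMod r) = 0 := (ZMod.natCast_eq_zero_iff _ _).2 h3
    rw [Nat.cast_sub (by omega), Nat.cast_one, sub_eq_zero] at h5
    exact h5
  rw [h4, orderOf_one] at h
  omega

theorem odd_of_ord {q r a : ℕ} (hr : r.Prime) (h : orderOf (q : ZMod r) = a) (ha : 2 ≤ a) : Odd r :=
  hr.odd_of_ne_two (ne_two_of_order hr h ha)

theorem not_p_dvd {p : ℕ} [hp : Fact p.Prime] [CharP F p] {r a : ℕ} (hr : r.Prime)
    (h : orderOf ((𝕢 : ℕ) : ZMod r) = a) (ha : 1 ≤ a) : ¬ p ∣ r := by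
  intro h1
  have h2 := (Nat.prime_dvd_prime_iff_eq hp.out hr).1 h1
  subst h2
  obtain ⟨k, hpp, hk⟩ := FiniteField.card F p
  refine not_dvd_of_order hr h ha ?_
  rw [hk]
  exact dvd_pow_self p k.ne_zero

/-- **the element `M_m`** -/
theorem exists_M (F : Type*) [Field F] [Fintype F] (p : ℕ) [hp : Fact p.Prime] [CharP F p] (hp2 : p ≠ 2) (m : ℕ)
    (hm : 3 ≤ m) :
    ∃ (N M : GL (Fin m) F) (θ : Fin m → AlgebraicClosure F) (P : GL (Fin m) (AlgebraicClosure F)) (s : Fin m → ℤ),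
      M = N * N ∧ Dg M P θ ∧ (∀ j, θ j ≠ 0) ∧ (∀ j, s j = 1 ∨ s j = -1) ∧ ∏ j, θ j ^ s j = 1 ∧ ¬ p ∣ orderOf M ∧
      Big (Fintype.card F) m (orderOf M) := by
  classical
  set q := Fintype.card F with hqdef
  have hq1 : 1 < q := Fintype.one_lt_card
  obtain ⟨kk, hpp, hk⟩ := FiniteField.card F p
  have hqodd : Odd q := by
    rw [hqdef, hk]
    exact (hp.out.odd_of_ne_two hp2).pow
  have zs : ∀ e : ℕ, 3 ≤ e → ∃ r : ℕ, r.Prime ∧ orderOf (q : ZMod r) = e := fun e he =>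
    Cfsg.Agent.Lib.Zsigmondy.exists_prime_orderOf (by omega) (by omega) (by omega) (by
      rintro ⟨h, -⟩
      rw [h] at hqodd
      exact absurd hqodd (by decide))
  rcases Nat.even_or_odd m with hev | hodd
  swap
  · -- `m` odd
    obtain ⟨r, hr, her⟩ := zs m hm
    have hpr := not_p_dvd (F := F) (p := p) hr her (by omega)
    obtain ⟨z, hz0, hz⟩ := exists_prim F p hr.pos hpr
    obtain ⟨y, hy0, hyz, hyo⟩ := sqrt_odd hz0 (hz ▸ odd_of_ord hr her (by omega))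
    obtain ⟨P, hP⟩ := exists_P (F := F) p m (by omega)
    have hd := dvd_of_ord (k := m) (by omega) her dvd_rfl
    obtain ⟨M, hM⟩ := hP z hz0 (pow_q_of_order (by rw [hz]; exact hd))
    obtain ⟨N, hN⟩ := hP y hy0 (pow_q_of_order (hyo.trans (by rw [hz]; exact hd)))
    have hMd : Dg M P (fun i : Fin m => z ^ q ^ (i : ℕ)) := hM
    have hNd : Dg N P (fun i : Fin m => y ^ q ^ (i : ℕ)) := hN
    refine ⟨N, M, _, P, fun _ => 1, ?_, hMd, fun j => pow_ne_zero _ hz0, fun _ => Or.inl rfl, ?_, ?_, ?_⟩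
    · refine hMd.inj ?_
      have h1 := hNd.mul hNd
      have h2 : (fun i : Fin m => y ^ q ^ (i : ℕ) * y ^ q ^ (i : ℕ)) = fun i : Fin m => z ^ q ^ (i : ℕ) := by
        funext i
        rw [← mul_pow, hyz]
      rwa [h2] at h1
    · simp only [zpow_one]
      rw [prod_pow_q]
      exact orderOf_dvd_iff_pow_eq_one.1 (by rw [hz]; exact dvd_geom hr hq1 her (by omega))
    · intro h
      have h1 : orderOf M ∣ r := by
        apply orderOf_dvd_of_pow_eq_one
        rw [hMd.pow_eq_one_iff]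
        intro i
        rw [← pow_mul, mul_comm, pow_mul, ← hz, pow_orderOf_eq_one, one_pow]
      exact hpr (h.trans h1)
    · refine Or.inl ⟨hm, hodd, r, hr, ?_, her⟩
      have h1 := hMd.orderOf_dvd ⟨0, by omega⟩
      simpa [hz] using h1
  by_cases h4 : m = 4
  · subst h4
    obtain ⟨r, hr, her⟩ := zs 4 (by omega)
    have hpr := not_p_dvd (F := F) (p := p) hr her (by omega)
    have hrodd := odd_of_ord hr her (by omega)
    -- the 2-part
    have hq2 : 8 ∣ q ^ 2 - 1 := by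
      obtain ⟨k, hk⟩ := hqodd
      have h1 : q ^ 2 - 1 = 4 * (k * (k + 1)) := by
        rw [hk]
        have : (2 * k + 1) ^ 2 = 4 * (k * (k + 1)) + 1 := by ring
        omega
      rw [h1]
      have h2 : 2 ∣ k * (k + 1) := (Nat.even_mul_succ_self k).two_dvd
      obtain ⟨c, hc⟩ := h2
      exact ⟨c, by rw [hc]; ring⟩
    have hq0 : q ^ 2 - 1 ≠ 0 := by
      have : 1 < q ^ 2 := Nat.one_lt_pow (by omega) hq1
      omega
    set t := (q ^ 2 - 1).factorization 2 with ht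
    have ht1 : 2 ^ t ∣ q ^ 2 - 1 := Nat.ordProj_dvd _ _
    have ht2 : ¬ 2 ^ (t + 1) ∣ q ^ 2 - 1 := Nat.pow_succ_factorization_not_dvd hq0 Nat.prime_two
    have ht3 : 3 ≤ t := by
      have h1 : 2 ^ 3 ∣ q ^ 2 - 1 := by simpa using hq2
      exact (Nat.prime_two.pow_dvd_iff_le_factorization hq0).1 h1
    have h2q : 2 ∣ q ^ 2 + 1 := by
      have h1 : Odd (q ^ 2) := hqodd.pow
      obtain ⟨c, hc⟩ := h1
      exact ⟨c + 1, by omega⟩
    have hr2 : r ∣ q ^ 2 + 1 := by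
      have h1 := dvd_of_ord (k := 4) (by omega) her dvd_rfl
      have h2 : q ^ 4 - 1 = (q ^ 2 + 1) * (q ^ 2 - 1) := by
        have h3 : q ^ 4 = q ^ 2 * q ^ 2 := by ring
        obtain ⟨c, hc⟩ : ∃ c, q ^ 2 = c + 1 := ⟨q ^ 2 - 1, by omega⟩
        rw [h3, hc, Nat.add_sub_cancel]
        have : (c + 1) * (c + 1) = (c + 1 + 1) * c + 1 := by ring
        rw [this, Nat.add_sub_cancel]
      rw [h2] at h1
      refine (hr.dvd_mul.1 h1).resolve_right fun h3 => ?_
      have h4 : (q : ZMod r) ^ 2 = 1 := by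
        have h5 : ((q ^ 2 - 1 : ℕ) : ZMod r) = 0 := (ZMod.natCast_eq_zero_iff _ _).2 h3
        rw [Nat.cast_sub (by omega), Nat.cast_one, sub_eq_zero] at h5
        exact_mod_cast h5
      have h5 := orderOf_dvd_of_pow_eq_one h4
      rw [her] at h5
      exact absurd h5 (by decide)
    have h2r : 2 * r ∣ q ^ 2 + 1 := Nat.Coprime.mul_dvd_of_dvd_of_dvd (Nat.coprime_two_left.2 hrodd) h2q hr2
    have hp2' : ¬ p ∣ 2 := fun h => hp2 ((Nat.prime_dvd_prime_iff_eq hp.out Nat.prime_two).1 h)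
    have hpo : ¬ p ∣ r * 2 ^ (t + 1) := fun h =>
      (hp.out.dvd_mul.1 h).elim hpr fun h => hp2' (hp.out.dvd_of_dvd_pow h)
    obtain ⟨y, hy0, hy⟩ := exists_prim F p (Nat.mul_pos hr.pos (pow_pos two_pos (t + 1))) hpo
    have hdy : orderOf y ∣ q ^ 4 - 1 := by
      rw [hy]
      have h2 : q ^ 4 - 1 = (q ^ 2 + 1) * (q ^ 2 - 1) := by
        have h3 : q ^ 4 = q ^ 2 * q ^ 2 := by ring
        obtain ⟨c, hc⟩ : ∃ c, q ^ 2 = c + 1 := ⟨q ^ 2 - 1, by omega⟩
        rw [h3, hc, Nat.add_sub_cancel]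
        have : (c + 1) * (c + 1) = (c + 1 + 1) * c + 1 := by ring
        rw [this, Nat.add_sub_cancel]
      rw [h2, show r * 2 ^ (t + 1) = (2 * r) * 2 ^ t by rw [pow_succ]; ring]
      exact Nat.mul_dvd_mul h2r ht1
    set z := y * y with hzdef
    have hz0 : z ≠ 0 := mul_ne_zero hy0 hy0
    have hz : orderOf z = r * 2 ^ t := by
      rw [hzdef, ← pow_two]
      have h1 : orderOf (y ^ 2) = orderOf y / Nat.gcd (orderOf y) 2 :=
        orderOf_pow' y two_ne_zero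
      rw [h1, hy, show r * 2 ^ (t + 1) = 2 * (r * 2 ^ t) by rw [pow_succ]; ring, Nat.gcd_eq_right (dvd_mul_right 2 _),
        Nat.mul_div_cancel_left _ two_pos]
    have hdz : orderOf z ∣ q ^ 4 - 1 := by
      rw [hzdef, ← pow_two]
      exact (orderOf_pow_dvd 2).trans hdy
    obtain ⟨P, hP⟩ := exists_P (F := F) p 4 (by omega)
    obtain ⟨M, hM⟩ := hP z hz0 (pow_q_of_order hdz)
    obtain ⟨N, hN⟩ := hP y hy0 (pow_q_of_order hdy)
    have hMd : Dg M P (fun i : Fin 4 => z ^ q ^ (i : ℕ)) := hM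
    have hNd : Dg N P (fun i : Fin 4 => y ^ q ^ (i : ℕ)) := hN
    have hMN : M = N * N := by
      refine hMd.inj ?_
      have h1 := hNd.mul hNd
      have h2 : (fun i : Fin 4 => y ^ q ^ (i : ℕ) * y ^ q ^ (i : ℕ)) = fun i : Fin 4 => z ^ q ^ (i : ℕ) := by
        funext i
        rw [← mul_pow, hzdef]
      rwa [h2] at h1
    have hpM : ¬ p ∣ orderOf M := by
      intro h
      have h1 : orderOf M ∣ r * 2 ^ t := by
        apply orderOf_dvd_of_pow_eq_one
        rw [hMd.pow_eq_one_iff]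
        intro i
        rw [← pow_mul, mul_comm, pow_mul, ← hz, pow_orderOf_eq_one, one_pow]
      exact (hp.out.dvd_mul.1 (h.trans h1)).elim hpr fun h => hp2' (hp.out.dvd_of_dvd_pow h)
    have hbig : Big q 4 (orderOf M) := by
      have h1 := hMd.orderOf_dvd ⟨0, by omega⟩
      have h2 : r * 2 ^ t ∣ orderOf M := by simpa [hz] using h1
      exact Or.inr (Or.inr (Or.inr ⟨rfl, ⟨r, hr, (dvd_mul_right _ _).trans h2, her⟩, t, ht3, ht2,
        (dvd_mul_left _ _).trans h2⟩))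
    have hmod : q % 4 = 1 ∨ q % 4 = 3 := by
      obtain ⟨k, hk⟩ := hqodd
      omega
    have hz4 : ∀ k : ℕ, r * 2 ^ t ∣ k → z ^ k = 1 := fun k hk' =>
      orderOf_dvd_iff_pow_eq_one.1 (by rw [hz]; exact hk')
    rcases hmod with hmod | hmod
    · -- alternating signs
      refine ⟨N, M, _, P, ![1, -1, 1, -1], hMN, hMd, fun j => pow_ne_zero _ hz0, ?_, ?_, hpM, hbig⟩
      · intro j
        fin_cases j
        · exact Or.inl rfl
        · exact Or.inr rfl
        · exact Or.inl rfl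
        · exact Or.inr rfl
      · -- `2 ^ t ∣ (q - 1) * (q ^ 2 + 1)`
        have h1 : 2 ^ t ∣ (q - 1) * 2 := by
          have h2 : q ^ 2 - 1 = (q - 1) * (q + 1) := by
            have := Nat.sq_sub_sq q 1
            rw [one_pow] at this
            rw [this, mul_comm]
          obtain ⟨c, hc⟩ : ∃ c, q + 1 = 2 * (2 * c + 1) := ⟨q / 4, by omega⟩
          rw [h2, hc, ← mul_assoc] at ht1
          exact (Nat.Coprime.pow_left t (by rw [Nat.coprime_two_left]; exact ⟨c, rfl⟩)).dvd_of_dvd_mul_right ht1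
        have h3 : r * 2 ^ t ∣ (q - 1) * (q ^ 2 + 1) := by
          obtain ⟨c, hc⟩ := h2q
          have h4 : 2 ^ t ∣ (q - 1) * (q ^ 2 + 1) := by
            rw [hc, ← mul_assoc]
            exact h1.mul_right c
          exact Nat.Coprime.mul_dvd_of_dvd_of_dvd
            (Nat.Coprime.pow_right t (Nat.coprime_two_right.2 hrodd)) (hr2.mul_left _) h4
        have h4 : q + q ^ 3 = (1 + q ^ 2) + (q - 1) * (q ^ 2 + 1) := by
          obtain ⟨c, hc⟩ : ∃ c, q = c + 1 := ⟨q - 1, by omega⟩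
          rw [hc, Nat.add_sub_cancel]
          ring
        have h5 : z ^ (q + q ^ 3) = z ^ (1 + q ^ 2) := by rw [h4, pow_add, hz4 _ h3, mul_one]
        simp only [Fin.prod_univ_four, Matrix.cons_val_zero, Matrix.cons_val_one, Matrix.cons_val, zpow_one, _root_.zpow_neg]
        have h6 : z ^ q ^ 0 * (z ^ q ^ 1)⁻¹ * z ^ q ^ 2 * (z ^ q ^ 3)⁻¹ = z ^ (1 + q ^ 2) * (z ^ (q + q ^ 3))⁻¹ := by
          rw [pow_add, pow_add, pow_zero, pow_one, mul_inv, pow_one]
          ring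
        have h7 : z ^ (q + q ^ 3) ≠ 0 := pow_ne_zero _ hz0
        refine h6.trans ?_
        rw [← h5, mul_inv_cancel₀ h7]
    · -- all signs `+`
      refine ⟨N, M, _, P, fun _ => 1, hMN, hMd, fun j => pow_ne_zero _ hz0, fun _ => Or.inl rfl, ?_, hpM, hbig⟩
      simp only [zpow_one]
      rw [prod_pow_q]
      apply hz4
      have h1 : 2 ^ t ∣ (q + 1) * 2 := by
        have h2 : q ^ 2 - 1 = (q + 1) * (q - 1) := by
          have := Nat.sq_sub_sq q 1
          rwa [one_pow] at this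
        obtain ⟨c, hc⟩ : ∃ c, q - 1 = 2 * (2 * c + 1) := ⟨q / 4, by omega⟩
        rw [h2, hc, ← mul_assoc] at ht1
        exact (Nat.Coprime.pow_left t (by rw [Nat.coprime_two_left]; exact ⟨c, rfl⟩)).dvd_of_dvd_mul_right ht1
      have h3 : ∑ i ∈ Finset.range 4, (Fintype.card F) ^ i = (q + 1) * (q ^ 2 + 1) := by
        simp only [Finset.sum_range_succ, Finset.sum_range_zero]
        ring
      rw [h3]
      obtain ⟨c, hc⟩ := h2q
      have h4 : 2 ^ t ∣ (q + 1) * (q ^ 2 + 1) := by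
        rw [hc, ← mul_assoc]
        exact h1.mul_right c
      exact Nat.Coprime.mul_dvd_of_dvd_of_dvd
        (Nat.Coprime.pow_right t (Nat.coprime_two_right.2 hrodd)) (hr2.mul_left _) h4
  by_cases h6 : m = 6
  · subst h6
    obtain ⟨r, hr, her⟩ := zs 3 (by omega)
    obtain ⟨u, hu, heu⟩ := zs 6 (by omega)
    have hpr := not_p_dvd (F := F) (p := p) hr her (by omega)
    have hpu := not_p_dvd (F := F) (p := p) hu heu (by omega)
    have hrodd := odd_of_ord hr her (by omega)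
    have huodd := odd_of_ord hu heu (by omega)
    have hru : r ≠ u := by
      rintro rfl
      omega
    have hcop : Nat.Coprime r u := (Nat.coprime_primes hr hu).2 hru
    have hpo : ¬ p ∣ r * u := fun h => (hp.out.dvd_mul.1 h).elim hpr hpu
    obtain ⟨z, hz0, hz⟩ := exists_prim F p (Nat.mul_pos hr.pos hu.pos) hpo
    obtain ⟨y, hy0, hyz, hyo⟩ := sqrt_odd hz0 (hz ▸ hrodd.mul huodd)
    have hd : r * u ∣ q ^ 6 - 1 := hcop.mul_dvd_of_dvd_of_dvd (dvd_of_ord (by omega) her (by decide))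
      (dvd_of_ord (by omega) heu dvd_rfl)
    obtain ⟨P, hP⟩ := exists_P (F := F) p 6 (by omega)
    obtain ⟨M, hM⟩ := hP z hz0 (pow_q_of_order (by rw [hz]; exact hd))
    obtain ⟨N, hN⟩ := hP y hy0 (pow_q_of_order (hyo.trans (by rw [hz]; exact hd)))
    have hMd : Dg M P (fun i : Fin 6 => z ^ q ^ (i : ℕ)) := hM
    have hNd : Dg N P (fun i : Fin 6 => y ^ q ^ (i : ℕ)) := hN
    refine ⟨N, M, _, P, ![1, -1, 1, -1, 1, -1], ?_, hMd, fun j => pow_ne_zero _ hz0, ?_, ?_, ?_, ?_⟩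
    · refine hMd.inj ?_
      have h1 := hNd.mul hNd
      have h2 : (fun i : Fin 6 => y ^ q ^ (i : ℕ) * y ^ q ^ (i : ℕ)) = fun i : Fin 6 => z ^ q ^ (i : ℕ) := by
        funext i
        rw [← mul_pow, hyz]
      rwa [h2] at h1
    · intro j
      fin_cases j
      · exact Or.inl rfl
      · exact Or.inr rfl
      · exact Or.inl rfl
      · exact Or.inr rfl
      · exact Or.inl rfl
      · exact Or.inr rfl
    · -- `q + q^3 + q^5 ≡ 1 + q^2 + q^4`
      have hq3 : (q : ZMod r) ^ 3 = 1 := by rw [← her, pow_orderOf_eq_one]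
      have hFu : Fact u.Prime := ⟨hu⟩
      have hq6 : (q : ZMod u) ^ 2 - q + 1 = 0 := by
        have h1 : (q : ZMod u) ^ 6 = 1 := by rw [← heu, pow_orderOf_eq_one]
        have h2 : (q : ZMod u) ^ 2 ≠ 1 := fun h => by
          have := orderOf_dvd_of_pow_eq_one h
          rw [heu] at this
          exact absurd this (by decide)
        have h3 : (q : ZMod u) ^ 3 ≠ 1 := fun h => by
          have := orderOf_dvd_of_pow_eq_one h
          rw [heu] at this
          exact absurd this (by decide)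
        have h4 : ((q : ZMod u) ^ 3 - 1) * (((q : ZMod u) + 1) * ((q : ZMod u) ^ 2 - q + 1)) = 0 := by
          linear_combination h1
        rcases mul_eq_zero.1 h4 with h5 | h5
        · exact absurd (sub_eq_zero.1 h5) h3
        · rcases mul_eq_zero.1 h5 with h6 | h6
          · exfalso
            apply h2
            linear_combination ((q : ZMod u) - 1) * h6
          · exact h6
      have hle : 1 + q ^ 2 + q ^ 4 ≤ q + q ^ 3 + q ^ 5 := by
        have h1 : q ^ 2 ≤ q ^ 3 := Nat.pow_le_pow_right (by omega) (by omega)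
        have h2 : q ^ 4 ≤ q ^ 5 := Nat.pow_le_pow_right (by omega) (by omega)
        omega
      obtain ⟨d, hd'⟩ := Nat.exists_eq_add_of_le hle
      have hdr : r ∣ d := by
        have h1 := congrArg (fun n : ℕ => (n : ZMod r)) hd'
        push_cast at h1
        rw [← ZMod.natCast_eq_zero_iff]
        linear_combination (-1 : ZMod r) * h1 + ((q : ZMod r) ^ 2 - q + 1) * hq3
      have hdu : u ∣ d := by
        have h1 := congrArg (fun n : ℕ => (n : ZMod u)) hd'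
        push_cast at h1
        rw [← ZMod.natCast_eq_zero_iff]
        linear_combination (-1 : ZMod u) * h1 + ((q : ZMod u) ^ 3 - 1) * hq6
      have hzd : z ^ d = 1 := orderOf_dvd_iff_pow_eq_one.1 (by rw [hz]; exact hcop.mul_dvd_of_dvd_of_dvd hdr hdu)
      have h5 : z ^ (q + q ^ 3 + q ^ 5) = z ^ (1 + q ^ 2 + q ^ 4) := by
        rw [hd', pow_add, hzd, mul_one]
      simp only [Fin.prod_univ_six, Matrix.cons_val_zero, Matrix.cons_val_one, Matrix.cons_val, zpow_one, _root_.zpow_neg]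
      have h6 : z ^ q ^ 0 * (z ^ q ^ 1)⁻¹ * z ^ q ^ 2 * (z ^ q ^ 3)⁻¹ * z ^ q ^ 4 * (z ^ q ^ 5)⁻¹ =
          z ^ (1 + q ^ 2 + q ^ 4) * (z ^ (q + q ^ 3 + q ^ 5))⁻¹ := by
        rw [pow_add, pow_add, pow_add, pow_add, pow_zero, pow_one, mul_inv, mul_inv, pow_one]
        ring
      have h7 : z ^ (q + q ^ 3 + q ^ 5) ≠ 0 := pow_ne_zero _ hz0
      refine h6.trans ?_
      rw [← h5, mul_inv_cancel₀ h7]
    · intro h
      have h1 : orderOf M ∣ r * u := by
        apply orderOf_dvd_of_pow_eq_one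
        rw [hMd.pow_eq_one_iff]
        intro i
        rw [← pow_mul, mul_comm, pow_mul, ← hz, pow_orderOf_eq_one, one_pow]
      exact hpo (h.trans h1)
    · have h1 := hMd.orderOf_dvd ⟨0, by omega⟩
      have h2 : r * u ∣ orderOf M := by simpa [hz] using h1
      exact Or.inr (Or.inr (Or.inl ⟨rfl, ⟨r, hr, (dvd_mul_right _ _).trans h2, her⟩, u, hu,
        (dvd_mul_left _ _).trans h2, heu⟩))
  -- `m` even, `m ≥ 8`
  obtain ⟨a, b, ha3, hab, habm, hao, hbo, hnd⟩ : ∃ a b : ℕ, 3 ≤ a ∧ a + 2 ≤ b ∧ a + b = m ∧ Odd a ∧ Odd b ∧ ¬ a ∣ b := by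
    obtain ⟨h, hh⟩ := hev
    rcases Nat.even_or_odd h with he | ho
    · refine ⟨h - 1, h + 1, by omega, by omega, by omega, ?_, ?_, ?_⟩
      · obtain ⟨c, hc⟩ := he
        exact ⟨c - 1, by omega⟩
      · obtain ⟨c, hc⟩ := he
        exact ⟨c, by omega⟩
      · intro hd
        have h1 : h - 1 ∣ 2 := by
          have h2 : h + 1 - (h - 1) = 2 := by omega
          rw [← h2]
          exact Nat.dvd_sub hd dvd_rfl
        have h3 := Nat.le_of_dvd (by omega) h1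
        omega
    · refine ⟨h - 2, h + 2, by obtain ⟨c, hc⟩ := ho; omega, by omega, by omega, ?_, ?_, ?_⟩
      · obtain ⟨c, hc⟩ := ho
        exact ⟨c - 1, by omega⟩
      · obtain ⟨c, hc⟩ := ho
        exact ⟨c + 1, by omega⟩
      · intro hd
        obtain ⟨c, hc⟩ := ho
        have h1 : h - 2 ∣ 4 := by
          have h2 : h + 2 - (h - 2) = 4 := by omega
          rw [← h2]
          exact Nat.dvd_sub hd dvd_rfl
        have h3 := Nat.le_of_dvd (by omega) h1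
        have h4 : h - 2 = 3 := by omega
        rw [h4] at h1
        exact absurd h1 (by decide)
  obtain ⟨r, hr, her⟩ := zs a ha3
  obtain ⟨u, hu, heu⟩ := zs b (by omega)
  have hpr := not_p_dvd (F := F) (p := p) hr her (by omega)
  have hpu := not_p_dvd (F := F) (p := p) hu heu (by omega)
  obtain ⟨z, hz0, hz⟩ := exists_prim F p hr.pos hpr
  obtain ⟨y, hy0, hyz, hyo⟩ := sqrt_odd hz0 (hz ▸ odd_of_ord hr her (by omega))
  obtain ⟨z', hz0', hz'⟩ := exists_prim F p hu.pos hpu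
  obtain ⟨y', hy0', hyz', hyo'⟩ := sqrt_odd hz0' (hz' ▸ odd_of_ord hu heu (by omega))
  have hd := dvd_of_ord (k := a) (by omega) her dvd_rfl
  have hd' := dvd_of_ord (k := b) (by omega) heu dvd_rfl
  obtain ⟨P₁, hP₁⟩ := exists_P (F := F) p a (by omega)
  obtain ⟨P₂, hP₂⟩ := exists_P (F := F) p b (by omega)
  obtain ⟨M₁, hM₁⟩ := hP₁ z hz0 (pow_q_of_order (by rw [hz]; exact hd))
  obtain ⟨M₂, hM₂⟩ := hP₂ z' hz0' (pow_q_of_order (by rw [hz']; exact hd'))
  have hD₁ : Dg M₁ P₁ (fun i : Fin a => z ^ q ^ (i : ℕ)) := hM₁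
  have hD₂ : Dg M₂ P₂ (fun i : Fin b => z' ^ q ^ (i : ℕ)) := hM₂
  obtain ⟨M', P', hD'⟩ := hD₁.block hD₂
  subst habm
  obtain ⟨M, P, hD⟩ := hD'.reindex finSumFinEquiv
  obtain ⟨θ, hθ⟩ : ∃ θ : Fin (a + b) → AlgebraicClosure F, θ = Sum.elim (fun i : Fin a => z ^ q ^ (i : ℕ))
    (fun i : Fin b => z' ^ q ^ (i : ℕ)) ∘ finSumFinEquiv.symm := ⟨_, rfl⟩
  rw [← hθ] at hD
  have hru : orderOf M ∣ r * u := by
    apply orderOf_dvd_of_pow_eq_one
    rw [hD.pow_eq_one_iff]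
    intro i
    rw [hθ, Function.comp_apply]
    rcases finSumFinEquiv.symm i with j | j
    · rw [Sum.elim_inl, ← pow_mul, show q ^ (j : ℕ) * (r * u) = r * (q ^ (j : ℕ) * u) by ring, pow_mul, ← hz,
        pow_orderOf_eq_one, one_pow]
    · rw [Sum.elim_inr, ← pow_mul, show q ^ (j : ℕ) * (r * u) = u * (q ^ (j : ℕ) * r) by ring, pow_mul, ← hz',
        pow_orderOf_eq_one, one_pow]
  have hro : r ∣ orderOf M := by
    have h1 := hD.orderOf_dvd (finSumFinEquiv (Sum.inl ⟨0, by omega⟩))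
    rw [hθ, Function.comp_apply, Equiv.symm_apply_apply, Sum.elim_inl] at h1
    simpa [hz] using h1
  have huo : u ∣ orderOf M := by
    have h1 := hD.orderOf_dvd (finSumFinEquiv (Sum.inr ⟨0, by omega⟩))
    rw [hθ, Function.comp_apply, Equiv.symm_apply_apply, Sum.elim_inr] at h1
    simpa [hz'] using h1
  have hModd : Odd (orderOf M) := by
    refine Odd.of_dvd_nat ?_ hru
    exact (odd_of_ord hr her (by omega)).mul (odd_of_ord hu heu (by omega))
  obtain ⟨c, hc⟩ := hModd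
  refine ⟨M ^ (c + 1), M, θ, P, fun _ => 1, ?_, hD, ?_, fun _ => Or.inl rfl, ?_, ?_, ?_⟩
  · rw [← pow_add, show c + 1 + (c + 1) = orderOf M + 1 by omega, pow_succ, pow_orderOf_eq_one, one_mul]
  · intro j
    rw [hθ, Function.comp_apply]
    rcases finSumFinEquiv.symm j with i | i
    · exact pow_ne_zero _ hz0
    · exact pow_ne_zero _ hz0'
  · simp only [zpow_one]
    have h1 : ∏ j, θ j = ∏ x : Fin a ⊕ Fin b, Sum.elim (fun i : Fin a => z ^ q ^ (i : ℕ))
        (fun i : Fin b => z' ^ q ^ (i : ℕ)) x := by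
      rw [hθ]
      exact Equiv.prod_comp finSumFinEquiv.symm _
    rw [h1, Fintype.prod_sum_type]
    simp only [Sum.elim_inl, Sum.elim_inr]
    rw [prod_pow_q, prod_pow_q, orderOf_dvd_iff_pow_eq_one.1 (by rw [hz]; exact dvd_geom hr hq1 her (by omega)),
      orderOf_dvd_iff_pow_eq_one.1 (by rw [hz']; exact dvd_geom hu hq1 heu (by omega)), mul_one]
  · intro h
    exact (hp.out.dvd_mul.1 (h.trans hru)).elim hpr hpu
  · exact Or.inr (Or.inl ⟨a, b, ha3, hab, rfl, hao, hbo, hnd, ⟨r, hr, hro, her⟩, u, hu, huo, heu⟩)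

end M

end Cfsg.Agent.H416.CV
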